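import Cfsg.Agent.S1066

/-!
# S5928: inequalities for the order of `²E₆(q)` (helper249)
-/

set_option autoImplicit false

namespace Cfsg.Agent.H249.E6.TwCard

open Cfsg Cfsg.Lie

universe u

theorem le_three {K : Type u} [Field K] [Fintype K] {q : ℕ} (hq : IsPrimePow q) (hK : Fintype.card K = q ^ 2) :
    q ^ 36 * (q ^ 2 - 1) * (q ^ 5 + 1) * (q ^ 6 - 1) * (q ^ 8 - 1) * (q ^ 9 + 1) * (q ^ 12 - 1) ≤
      3 * Nat.card ↥(twistedE6 K q) := by
  rw [← Cfsg.Agent.S1066.result hq hK]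
  exact Nat.mul_le_mul_right _ (Nat.gcd_le_left _ (by norm_num))

theorem half_le {q k : ℕ} (hq : 2 ≤ q) (hk : k ≠ 0) : q ^ k ≤ 2 * (q ^ k - 1) := by
  have h1 : 2 ≤ q ^ k := hq.trans (Nat.le_self_pow hk q)
  omega

theorem prod_le {q : ℕ} (hq : 2 ≤ q) : q ^ 42 ≤
    16 * ((q ^ 2 - 1) * (q ^ 5 + 1) * (q ^ 6 - 1) * (q ^ 8 - 1) * (q ^ 9 + 1) * (q ^ 12 - 1)) := by
  have h2 := half_le hq (k := 2) (by norm_num)
  have h6 := half_le hq (k := 6) (by norm_num)
  have h8 := half_le hq (k := 8) (by norm_num)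
  have h12 := half_le hq (k := 12) (by norm_num)
  calc q ^ 42 = q ^ 2 * q ^ 5 * q ^ 6 * q ^ 8 * q ^ 9 * q ^ 12 := by ring
    _ ≤ (2 * (q ^ 2 - 1)) * (q ^ 5 + 1) * (2 * (q ^ 6 - 1)) * (2 * (q ^ 8 - 1)) * (q ^ 9 + 1) * (2 * (q ^ 12 - 1)) := by
        gcongr <;> omega
    _ = _ := by ring

theorem fac_le {n m : ℕ} (hn : n ≤ m) (hm : 7 ≤ m) : (if n = 6 then 1440 else n.factorial) ≤ m.factorial := by
  split_ifs with h
  · have h1 : (7 : ℕ).factorial ≤ m.factorial := Nat.factorial_le hm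
    have h2 : (7 : ℕ).factorial = 5040 := rfl
    omega
  · exact Nat.factorial_le hn

end Cfsg.Agent.H249.E6.TwCard

namespace Cfsg.Agent.H163.E6.Tw

open Cfsg Cfsg.Lie Cfsg.Agent.H249.E6.TwCard

universe u

/-- **(A1)** -/
theorem card_lt {K : Type u} [Field K] [Fintype K] {q n : ℕ} (hq : IsPrimePow q) (hK : Fintype.card K = q ^ 2)
    (hn : n ≤ 12) (h : n ≤ 10 ∨ 3 ≤ q) :
    (if n = 6 then 1440 else n.factorial) * q ^ 54 < Nat.card ↥(twistedE6 K q) := by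
  have h1 := le_three hq hK
  have hq2 : 2 ≤ q := hq.two_le
  rcases Nat.lt_or_ge q 3 with h3 | h3
  · obtain rfl : q = 2 := by omega
    have hn' : n ≤ 10 := h.resolve_right (by norm_num)
    have h4 := fac_le hn' (by norm_num)
    have h5 : (10 : ℕ).factorial = 3628800 := by decide +kernel
    rw [h5] at h4
    generalize (if n = 6 then 1440 else n.factorial) = f at h4 ⊢
    generalize Nat.card ↥(twistedE6 K 2) = N at h1 ⊢
    norm_num at h1 ⊢
    omega
  · have h4 := fac_le hn (by norm_num)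
    have h5 : (12 : ℕ).factorial = 479001600 := by decide +kernel
    rw [h5] at h4
    generalize (if n = 6 then 1440 else n.factorial) = f at h4 ⊢
    generalize Nat.card ↥(twistedE6 K q) = N at h1 ⊢
    have h6 := prod_le hq2
    have h7 : 3 ^ 24 ≤ q ^ 24 := Nat.pow_le_pow_left h3 24
    have h8 : 48 * 479001600 < q ^ 24 := lt_of_lt_of_le (by norm_num) h7
    have h9 : q ^ 36 * q ^ 42 ≤ 16 * (3 * N) := by
      calc q ^ 36 * q ^ 42 ≤ q ^ 36 * (16 * ((q ^ 2 - 1) * (q ^ 5 + 1) * (q ^ 6 - 1) * (q ^ 8 - 1) * (q ^ 9 + 1) *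
            (q ^ 12 - 1))) := Nat.mul_le_mul_left _ h6
        _ = 16 * (q ^ 36 * (q ^ 2 - 1) * (q ^ 5 + 1) * (q ^ 6 - 1) * (q ^ 8 - 1) * (q ^ 9 + 1) * (q ^ 12 - 1)) := by
            ring
        _ ≤ _ := Nat.mul_le_mul_left _ h1
    have h10 : 0 < q ^ 54 := Nat.pow_pos (by omega)
    have h11 : 48 * (479001600 * q ^ 54) < 48 * N := by
      calc 48 * (479001600 * q ^ 54) = (48 * 479001600) * q ^ 54 := by ring
        _ < q ^ 24 * q ^ 54 := Nat.mul_lt_mul_of_pos_right h8 h10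
        _ = q ^ 36 * q ^ 42 := by ring
        _ ≤ 16 * (3 * N) := h9
        _ = 48 * N := by ring
    calc f * q ^ 54 ≤ 479001600 * q ^ 54 := Nat.mul_le_mul_right _ h4
      _ < N := Nat.lt_of_mul_lt_mul_left h11

/-- **(A2)** -/
theorem card_lt_two {K : Type u} [Field K] [Fintype K] (hK : Fintype.card K = 2 ^ 2) :
    (12 : ℕ).factorial * (27 * 4 ^ 17) < Nat.card ↥(twistedE6 K 2) := by
  have h1 := le_three (q := 2) Nat.prime_two.isPrimePow hK
  have h5 : (12 : ℕ).factorial = 479001600 := by decide +kernel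
  rw [h5]
  generalize Nat.card ↥(twistedE6 K 2) = N at h1 ⊢
  norm_num at h1 ⊢
  omega

end Cfsg.Agent.H163.E6.Tw
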